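import Mathlib
import Cfsg.Prelude.Def_KGroupFacts

/-!
# Stem extensions and coprime parts

* `stem_quot`: the quotient of a stem extension by a subgroup of its kernel is a stem extension.
* `stem_bound_mul`: upper bounds `ZMod m`, `ZMod n` for the kernels of the stem extensions whose kernel has order prime
  to `n`, respectively `m`, combine to the upper bound `ZMod (m * n)` for all stem extensions (`m`, `n` coprime).
* `stem_exists_mul`: stem extensions with kernels `ZMod m` and `ZMod n` combine (pullback) to one with kernel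
  `ZMod (m * n)` (`m`, `n` coprime).
-/

set_option autoImplicit false

namespace Cfsg.Agent.Lib.Lead.StemQ

open Cfsg
open scoped commutatorElement

universe u v

section cyc

/-- a cyclic group whose order divides `N` is an image of `ZMod N` -/
theorem exists_surj_of_cyclic {A : Type v} [Group A] [IsCyclic A] (N : ℕ) (hN : Nat.card A ∣ N) :
    ∃ π : Multiplicative (ZMod N) →* A, Function.Surjective π := by
  obtain ⟨g, hg⟩ := IsCyclic.exists_generator (α := A)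
  have hgN : g ^ N = 1 := by
    obtain ⟨c, rfl⟩ := hN
    rw [pow_mul, pow_card_eq_one', one_pow]
  let f : ℤ →+ Additive A := zmultiplesHom (Additive A) (Additive.ofMul g)
  have hf : f (N : ℤ) = 0 := by
    change ((N : ℤ)) • Additive.ofMul g = 0
    rw [natCast_zsmul, ← ofMul_pow, hgN]; rfl
  let φ : ZMod N →+ Additive A := ZMod.lift N ⟨f, hf⟩
  refine ⟨AddMonoidHom.toMultiplicativeLeft φ, ?_⟩
  intro a
  obtain ⟨z, rfl⟩ := Subgroup.mem_zpowers_iff.1 (hg a)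
  refine ⟨Multiplicative.ofAdd ((z : ℤ) : ZMod N), ?_⟩
  change Additive.toMul (φ ((z : ℤ) : ZMod N)) = g ^ z
  rw [ZMod.lift_coe]
  change Additive.toMul (z • Additive.ofMul g) = g ^ z
  rw [← ofMul_zpow]; rfl

theorem card_mult_zmod' (N : ℕ) : Nat.card (Multiplicative (ZMod N)) = N := by
  rw [Nat.card_congr Multiplicative.toAdd, Nat.card_zmod]

/-- the Chinese remainder theorem for the multiplicative copies -/
noncomputable def crtMul (m n : ℕ) (hmn : Nat.Coprime m n) :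
    Multiplicative (ZMod (m * n)) ≃* Multiplicative (ZMod m) × Multiplicative (ZMod n) :=
  (AddEquiv.toMultiplicative (ZMod.chineseRemainder hmn).toAddEquiv).trans
    (MulEquiv.prodMultiplicative (ZMod m) (ZMod n))

/-- a group that embeds in an image of `ZMod N` is an image of `ZMod N` -/
theorem exists_surj_of_embed {A T : Type v} [Group A] [Group T] (N : ℕ) (hN : 0 < N)
    (ρ : Multiplicative (ZMod N) →* T) (hρ : Function.Surjective ρ) (f : A →* T)
    (hf : Function.Injective f) : ∃ π : Multiplicative (ZMod N) →* A, Function.Surjective π := by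
  have : NeZero N := ⟨hN.ne'⟩
  have : IsCyclic T := isCyclic_of_surjective ρ hρ
  have : IsCyclic A := isCyclic_of_injective f hf
  have : Finite T := Finite.of_surjective ρ hρ
  apply exists_surj_of_cyclic
  have h1 : Nat.card A ∣ Nat.card T := Subgroup.card_dvd_of_injective f hf
  have h2 : Nat.card T ∣ Nat.card (Multiplicative (ZMod N)) := Subgroup.card_dvd_of_surjective ρ hρ
  rw [card_mult_zmod'] at h2
  exact h1.trans h2

end cyc

section quot

variable {Γ : Type u} {G : Type v} [Group Γ] [Group G] (σ : Γ →* G)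

theorem normal_of_le_ker (hσ : IsStemExtension σ) (N : Subgroup Γ) (hN : N ≤ σ.ker) : N.Normal := by
  constructor
  intro x hx g
  have hc := Subgroup.mem_center_iff.1 (hσ.2.1 (hN hx)) g
  have : g * x * g⁻¹ = x := by rw [hc, mul_inv_cancel_right]
  rw [this]; exact hx

/-- the induced map on the quotient by a subgroup of the kernel -/
noncomputable def quotMap (N : Subgroup Γ) [N.Normal] (hN : N ≤ σ.ker) : Γ ⧸ N →* G :=
  QuotientGroup.lift N σ (fun _ hx => MonoidHom.mem_ker.1 (hN hx))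

theorem quotMap_mk (N : Subgroup Γ) [N.Normal] (hN : N ≤ σ.ker) (y : Γ) :
    quotMap σ N hN (QuotientGroup.mk y) = σ y := rfl

/-- the quotient of a stem extension by a subgroup of its kernel is a stem extension -/
theorem stem_quot (hσ : IsStemExtension σ) (N : Subgroup Γ) [N.Normal] (hN : N ≤ σ.ker) :
    IsStemExtension (quotMap σ N hN) := by
  refine ⟨?_, ?_, ?_⟩
  · intro g
    obtain ⟨x, rfl⟩ := hσ.1 g
    exact ⟨QuotientGroup.mk x, rfl⟩
  · intro q hq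
    obtain ⟨x, rfl⟩ := QuotientGroup.mk_surjective q
    have hx : x ∈ σ.ker := by
      rw [MonoidHom.mem_ker] at hq ⊢
      exact hq
    rw [Subgroup.mem_center_iff]
    intro r
    obtain ⟨y, rfl⟩ := QuotientGroup.mk_surjective r
    have hc := Subgroup.mem_center_iff.1 (hσ.2.1 hx) y
    rw [← QuotientGroup.mk_mul, ← QuotientGroup.mk_mul, hc]
  · intro q hq
    obtain ⟨x, rfl⟩ := QuotientGroup.mk_surjective q
    have hx : x ∈ σ.ker := by
      rw [MonoidHom.mem_ker] at hq ⊢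
      exact hq
    have h1 : x ∈ commutator Γ := hσ.2.2 hx
    have h2 : (commutator Γ).map (QuotientGroup.mk' N) ≤ commutator (Γ ⧸ N) := by
      rw [commutator_def, commutator_def, Subgroup.map_commutator]
      exact Subgroup.commutator_mono le_top le_top
    exact h2 ⟨x, h1, rfl⟩

theorem mem_ker_quotMap (N : Subgroup Γ) [N.Normal] (hN : N ≤ σ.ker) (x : Γ) :
    (QuotientGroup.mk x : Γ ⧸ N) ∈ (quotMap σ N hN).ker ↔ x ∈ σ.ker := by
  rw [MonoidHom.mem_ker, MonoidHom.mem_ker]; rfl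

end quot

section primary

variable {Γ : Type u} {G : Type v} [Group Γ] [Group G] (σ : Γ →* G)

/-- the elements of the kernel of a stem extension killed by a power of `d` -/
def primPart (hσ : IsStemExtension σ) (d : ℕ) : Subgroup Γ where
  carrier := {a | a ∈ σ.ker ∧ ∃ k : ℕ, a ^ (d ^ k) = 1}
  one_mem' := ⟨σ.ker.one_mem, 0, by simp⟩
  mul_mem' := by
    rintro a b ⟨ha, k, hk⟩ ⟨hb, l, hl⟩
    refine ⟨σ.ker.mul_mem ha hb, k + l, ?_⟩
    have hc : Commute a b := (Subgroup.mem_center_iff.1 (hσ.2.1 ha) b).symm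
    rw [hc.mul_pow, pow_add, pow_mul, hk, one_pow, one_mul, mul_comm (d ^ k), pow_mul, hl, one_pow]
  inv_mem' := by
    rintro a ⟨ha, k, hk⟩
    exact ⟨σ.ker.inv_mem ha, k, by rw [inv_pow, hk, inv_one]⟩

theorem primPart_le (hσ : IsStemExtension σ) (d : ℕ) : primPart σ hσ d ≤ σ.ker := fun _ h => h.1

instance primPart_normal (hσ : IsStemExtension σ) (d : ℕ) : (primPart σ hσ d).Normal :=
  normal_of_le_ker σ hσ _ (primPart_le σ hσ d)

/-- the kernel of the quotient by the `d`-primary part has order prime to `d` -/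
theorem coprime_card_ker_quot [Finite Γ] (hσ : IsStemExtension σ) (d : ℕ) :
    Nat.Coprime (Nat.card (quotMap σ (primPart σ hσ d) (primPart_le σ hσ d)).ker) d := by
  apply Nat.coprime_of_dvd
  intro p hp hpc hpd
  have : Fact p.Prime := ⟨hp⟩
  obtain ⟨q, hq⟩ := exists_prime_orderOf_dvd_card' p hpc
  obtain ⟨q, hqk⟩ := q
  obtain ⟨x, rfl⟩ := QuotientGroup.mk_surjective q
  have hx : x ∈ σ.ker := (mem_ker_quotMap σ _ _ x).1 hqk
  have hqp : (QuotientGroup.mk x : Γ ⧸ primPart σ hσ d) ^ p = 1 := by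
    have := pow_orderOf_eq_one (⟨QuotientGroup.mk x, hqk⟩ :
      (quotMap σ (primPart σ hσ d) (primPart_le σ hσ d)).ker)
    rw [hq] at this
    exact congrArg Subtype.val this
  rw [← QuotientGroup.mk_pow, QuotientGroup.eq_one_iff] at hqp
  obtain ⟨-, k, hk⟩ := hqp
  obtain ⟨c, rfl⟩ := hpd
  have hx1 : x ∈ primPart σ hσ (p * c) := by
    refine ⟨hx, k + 1, ?_⟩
    have : (p * c) ^ (k + 1) = p * (p * c) ^ k * c := by ring
    rw [this, pow_mul, pow_mul, hk, one_pow]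
  have h0 : (QuotientGroup.mk x : Γ ⧸ primPart σ hσ (p * c)) = 1 := (QuotientGroup.eq_one_iff x).2 hx1
  have h1 : (⟨QuotientGroup.mk x, hqk⟩ :
      (quotMap σ (primPart σ hσ (p * c)) (primPart_le σ hσ (p * c))).ker) = 1 := Subtype.ext h0
  rw [h1, orderOf_one] at hq
  exact hp.one_lt.ne hq

end primary

section bound

/-- upper bounds combine over coprime parts -/
theorem stem_bound_mul {G : Type u} [Group G] [Finite G] (m n : ℕ) (hmn : Nat.Coprime m n) (hm : 0 < m) (hn : 0 < n)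
    (h1 : ∀ (Γ : Type u) [Group Γ] [Finite Γ] (σ : Γ →* G), Cfsg.IsStemExtension σ →
      Nat.Coprime (Nat.card σ.ker) n → ∃ π : Multiplicative (ZMod m) →* σ.ker, Function.Surjective π)
    (h2 : ∀ (Γ : Type u) [Group Γ] [Finite Γ] (σ : Γ →* G), Cfsg.IsStemExtension σ →
      Nat.Coprime (Nat.card σ.ker) m → ∃ π : Multiplicative (ZMod n) →* σ.ker, Function.Surjective π) :
    ∀ (Γ : Type u) [Group Γ] [Finite Γ] (σ : Γ →* G), Cfsg.IsStemExtension σ →
      ∃ π : Multiplicative (ZMod (m * n)) →* σ.ker, Function.Surjective π := by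
  intro Γ _ _ σ hσ
  obtain ⟨π1, hπ1⟩ := h1 (Γ ⧸ primPart σ hσ n) (quotMap σ (primPart σ hσ n) (primPart_le σ hσ n))
    (stem_quot σ hσ _ _) (coprime_card_ker_quot σ hσ n)
  obtain ⟨π2, hπ2⟩ := h2 (Γ ⧸ primPart σ hσ m) (quotMap σ (primPart σ hσ m) (primPart_le σ hσ m))
    (stem_quot σ hσ _ _) (coprime_card_ker_quot σ hσ m)
  let f1 : σ.ker →* (quotMap σ (primPart σ hσ n) (primPart_le σ hσ n)).ker :=
    { toFun := fun a => ⟨QuotientGroup.mk a.1, (mem_ker_quotMap σ _ _ a.1).2 a.2⟩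
      map_one' := rfl
      map_mul' := fun a b => rfl }
  let f2 : σ.ker →* (quotMap σ (primPart σ hσ m) (primPart_le σ hσ m)).ker :=
    { toFun := fun a => ⟨QuotientGroup.mk a.1, (mem_ker_quotMap σ _ _ a.1).2 a.2⟩
      map_one' := rfl
      map_mul' := fun a b => rfl }
  have hf : Function.Injective (f1.prod f2) := by
    rw [injective_iff_map_eq_one]
    intro a ha
    have ha1 : (QuotientGroup.mk a.1 : Γ ⧸ primPart σ hσ n) = 1 :=
      congrArg (fun z => (z.1 : Γ ⧸ primPart σ hσ n)) (congrArg Prod.fst ha)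
    have ha2 : (QuotientGroup.mk a.1 : Γ ⧸ primPart σ hσ m) = 1 :=
      congrArg (fun z => (z.1 : Γ ⧸ primPart σ hσ m)) (congrArg Prod.snd ha)
    rw [QuotientGroup.eq_one_iff] at ha1 ha2
    obtain ⟨-, k, hk⟩ := ha1
    obtain ⟨-, l, hl⟩ := ha2
    have h3 : orderOf a.1 ∣ n ^ k := orderOf_dvd_of_pow_eq_one hk
    have h4 : orderOf a.1 ∣ m ^ l := orderOf_dvd_of_pow_eq_one hl
    have h5 : Nat.Coprime (m ^ l) (n ^ k) := Nat.Coprime.pow l k hmn
    have h6 : orderOf a.1 = 1 := Nat.eq_one_of_dvd_coprimes h5 h4 h3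
    exact Subtype.ext (orderOf_eq_one_iff.1 h6)
  refine exists_surj_of_embed (m * n) (Nat.mul_pos hm hn) ((π1.prodMap π2).comp (crtMul m n hmn).toMonoidHom) ?_
    (f1.prod f2) hf
  exact (Function.Surjective.prodMap hπ1 hπ2).comp (crtMul m n hmn).surjective

end bound

section pullback

variable {G : Type u} [Group G] {Γ1 Γ2 : Type u} [Group Γ1] [Group Γ2] (σ1 : Γ1 →* G) (σ2 : Γ2 →* G)

/-- the pullback of two homomorphisms -/
def pb : Subgroup (Γ1 × Γ2) :=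
  MonoidHom.eqLocus (σ1.comp (MonoidHom.fst Γ1 Γ2)) (σ2.comp (MonoidHom.snd Γ1 Γ2))

theorem mem_pb (z : Γ1 × Γ2) : z ∈ pb σ1 σ2 ↔ σ1 z.1 = σ2 z.2 := Iff.rfl

/-- first projection of the pullback -/
def pbFst : ↥(pb σ1 σ2) →* Γ1 := (MonoidHom.fst Γ1 Γ2).comp (pb σ1 σ2).subtype

/-- second projection of the pullback -/
def pbSnd : ↥(pb σ1 σ2) →* Γ2 := (MonoidHom.snd Γ1 Γ2).comp (pb σ1 σ2).subtype

/-- the map of the pullback to the base -/
def pbMap : ↥(pb σ1 σ2) →* G := σ1.comp (pbFst σ1 σ2)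

theorem pb_ext (z w : ↥(pb σ1 σ2)) (h1 : pbFst σ1 σ2 z = pbFst σ1 σ2 w)
    (h2 : pbSnd σ1 σ2 z = pbSnd σ1 σ2 w) : z = w :=
  Subtype.ext (Prod.ext h1 h2)

theorem pbMap_eq (z : ↥(pb σ1 σ2)) : pbMap σ1 σ2 z = σ2 (pbSnd σ1 σ2 z) := z.2

theorem pbMap_eq' (z : ↥(pb σ1 σ2)) : pbMap σ1 σ2 z = σ1 (pbFst σ1 σ2 z) := rfl

theorem exists_lift_fst (hs2 : Function.Surjective σ2) (x : Γ1) :
    ∃ z : ↥(pb σ1 σ2), pbFst σ1 σ2 z = x := by
  obtain ⟨y, hy⟩ := hs2 (σ1 x)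
  exact ⟨⟨(x, y), hy.symm⟩, rfl⟩

theorem exists_lift_snd (hs1 : Function.Surjective σ1) (y : Γ2) :
    ∃ z : ↥(pb σ1 σ2), pbSnd σ1 σ2 z = y := by
  obtain ⟨x, hx⟩ := hs1 (σ2 y)
  exact ⟨⟨(x, y), hx⟩, rfl⟩

theorem comm_le_map_fst (hs2 : Function.Surjective σ2) :
    commutator Γ1 ≤ (commutator ↥(pb σ1 σ2)).map (pbFst σ1 σ2) := by
  rw [commutator_def, Subgroup.commutator_le]
  intro g1 _ g2 _
  obtain ⟨z1, rfl⟩ := exists_lift_fst σ1 σ2 hs2 g1
  obtain ⟨z2, rfl⟩ := exists_lift_fst σ1 σ2 hs2 g2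
  refine ⟨⁅z1, z2⁆, Subgroup.commutator_mem_commutator (Subgroup.mem_top _) (Subgroup.mem_top _), ?_⟩
  rw [map_commutatorElement]

theorem comm_le_map_snd (hs1 : Function.Surjective σ1) :
    commutator Γ2 ≤ (commutator ↥(pb σ1 σ2)).map (pbSnd σ1 σ2) := by
  rw [commutator_def, Subgroup.commutator_le]
  intro g1 _ g2 _
  obtain ⟨z1, rfl⟩ := exists_lift_snd σ1 σ2 hs1 g1
  obtain ⟨z2, rfl⟩ := exists_lift_snd σ1 σ2 hs1 g2
  refine ⟨⁅z1, z2⁆, Subgroup.commutator_mem_commutator (Subgroup.mem_top _) (Subgroup.mem_top _), ?_⟩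
  rw [map_commutatorElement]

theorem bezout_nat (m n : ℕ) (hmn : Nat.Coprime m n) :
    (m : ℤ) * Nat.gcdA m n + (n : ℤ) * Nat.gcdB m n = 1 := by
  have h := Nat.gcd_eq_gcd_ab m n
  rw [hmn.gcd_eq_one] at h
  exact_mod_cast h.symm

theorem fst_mem_comm (hs2 : Function.Surjective σ2) (m n : ℕ) (hmn : Nat.Coprime m n)
    (hA1 : ∀ a ∈ σ1.ker, a ^ m = 1) (hA2 : ∀ b ∈ σ2.ker, b ^ n = 1) (hc1 : σ1.ker ≤ commutator Γ1)
    (a : Γ1) (ha : a ∈ σ1.ker) :
    ∃ z ∈ commutator ↥(pb σ1 σ2), pbFst σ1 σ2 z = a ∧ pbSnd σ1 σ2 z = 1 := by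
  obtain ⟨c, hc, hca⟩ := comm_le_map_fst σ1 σ2 hs2 (hc1 ha)
  have hy : pbSnd σ1 σ2 c ∈ σ2.ker := by
    rw [MonoidHom.mem_ker, ← pbMap_eq, pbMap_eq', hca]
    exact ha
  have hb := bezout_nat m n hmn
  refine ⟨c ^ ((n : ℤ) * Nat.gcdB m n), Subgroup.zpow_mem _ hc _, ?_, ?_⟩
  · rw [map_zpow, hca]
    have : (n : ℤ) * Nat.gcdB m n = 1 - (m : ℤ) * Nat.gcdA m n := by linarith
    rw [this, zpow_sub, zpow_one, zpow_mul, zpow_natCast, hA1 a ha, one_zpow, inv_one, mul_one]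
  · rw [map_zpow, zpow_mul, zpow_natCast, hA2 _ hy, one_zpow]

theorem snd_mem_comm (hs1 : Function.Surjective σ1) (m n : ℕ) (hmn : Nat.Coprime m n)
    (hA1 : ∀ a ∈ σ1.ker, a ^ m = 1) (hA2 : ∀ b ∈ σ2.ker, b ^ n = 1) (hc2 : σ2.ker ≤ commutator Γ2)
    (b : Γ2) (hb : b ∈ σ2.ker) :
    ∃ z ∈ commutator ↥(pb σ1 σ2), pbFst σ1 σ2 z = 1 ∧ pbSnd σ1 σ2 z = b := by
  obtain ⟨c, hc, hcb⟩ := comm_le_map_snd σ1 σ2 hs1 (hc2 hb)
  have hx : pbFst σ1 σ2 c ∈ σ1.ker := by
    rw [MonoidHom.mem_ker, ← pbMap_eq', pbMap_eq, hcb]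
    exact hb
  have hbz := bezout_nat m n hmn
  refine ⟨c ^ ((m : ℤ) * Nat.gcdA m n), Subgroup.zpow_mem _ hc _, ?_, ?_⟩
  · rw [map_zpow, zpow_mul, zpow_natCast, hA1 _ hx, one_zpow]
  · rw [map_zpow, hcb]
    have : (m : ℤ) * Nat.gcdA m n = 1 - (n : ℤ) * Nat.gcdB m n := by linarith
    rw [this, zpow_sub, zpow_one, zpow_mul, zpow_natCast, hA2 b hb, one_zpow, inv_one, mul_one]

/-- the kernel of the pullback is the product of the kernels -/
noncomputable def pbKerEquiv : (pbMap σ1 σ2).ker ≃* σ1.ker × σ2.ker where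
  toFun z := (⟨pbFst σ1 σ2 z.1, z.2⟩,
    ⟨pbSnd σ1 σ2 z.1, by rw [MonoidHom.mem_ker, ← pbMap_eq]; exact z.2⟩)
  invFun w := ⟨⟨(w.1.1, w.2.1), by
    rw [mem_pb]
    exact (MonoidHom.mem_ker.1 w.1.2).trans (MonoidHom.mem_ker.1 w.2.2).symm⟩, by
    rw [MonoidHom.mem_ker]
    exact MonoidHom.mem_ker.1 w.1.2⟩
  left_inv z := by
    apply Subtype.ext
    apply Subtype.ext
    rfl
  right_inv w := rfl
  map_mul' a b := rfl

end pullback

section exist

/-- existence combines (pullback) -/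
theorem stem_exists_mul {G : Type u} [Group G] (m n : ℕ) (hmn : Nat.Coprime m n) (hm : 0 < m) (hn : 0 < n)
    (h1 : ∃ (Γ : Type u) (_ : Group Γ) (_ : Finite Γ) (σ : Γ →* G),
      Cfsg.IsStemExtension σ ∧ Nonempty (σ.ker ≃* Multiplicative (ZMod m)))
    (h2 : ∃ (Γ : Type u) (_ : Group Γ) (_ : Finite Γ) (σ : Γ →* G),
      Cfsg.IsStemExtension σ ∧ Nonempty (σ.ker ≃* Multiplicative (ZMod n))) :
    ∃ (Γ : Type u) (_ : Group Γ) (_ : Finite Γ) (σ : Γ →* G),
      Cfsg.IsStemExtension σ ∧ Nonempty (σ.ker ≃* Multiplicative (ZMod (m * n))) := by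
  have _ := hm
  have _ := hn
  obtain ⟨Γ1, _, _, σ1, hσ1, ⟨e1⟩⟩ := h1
  obtain ⟨Γ2, _, _, σ2, hσ2, ⟨e2⟩⟩ := h2
  have hA1 : ∀ a ∈ σ1.ker, a ^ m = 1 := by
    intro a ha
    have hc : Nat.card σ1.ker = m := by rw [Nat.card_congr e1.toEquiv, card_mult_zmod']
    have h := pow_card_eq_one' (G := σ1.ker) (x := ⟨a, ha⟩)
    rw [hc] at h
    exact congrArg Subtype.val h
  have hA2 : ∀ b ∈ σ2.ker, b ^ n = 1 := by
    intro b hb
    have hc : Nat.card σ2.ker = n := by rw [Nat.card_congr e2.toEquiv, card_mult_zmod']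
    have h := pow_card_eq_one' (G := σ2.ker) (x := ⟨b, hb⟩)
    rw [hc] at h
    exact congrArg Subtype.val h
  refine ⟨↥(pb σ1 σ2), inferInstance, inferInstance, pbMap σ1 σ2, ⟨?_, ?_, ?_⟩, ⟨?_⟩⟩
  · intro g
    obtain ⟨x, rfl⟩ := hσ1.1 g
    obtain ⟨z, rfl⟩ := exists_lift_fst σ1 σ2 hσ2.1 x
    exact ⟨z, rfl⟩
  · intro z hz
    have hz1 : pbFst σ1 σ2 z ∈ σ1.ker := hz
    have hz2 : pbSnd σ1 σ2 z ∈ σ2.ker := by
      rw [MonoidHom.mem_ker, ← pbMap_eq]; exact hz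
    rw [Subgroup.mem_center_iff]
    intro w
    apply pb_ext
    · rw [map_mul, map_mul]
      exact Subgroup.mem_center_iff.1 (hσ1.2.1 hz1) _
    · rw [map_mul, map_mul]
      exact Subgroup.mem_center_iff.1 (hσ2.2.1 hz2) _
  · intro z hz
    have hz1 : pbFst σ1 σ2 z ∈ σ1.ker := hz
    have hz2 : pbSnd σ1 σ2 z ∈ σ2.ker := by
      rw [MonoidHom.mem_ker, ← pbMap_eq]; exact hz
    obtain ⟨w1, hw1c, hw1a, hw1b⟩ :=
      fst_mem_comm σ1 σ2 hσ2.1 m n hmn hA1 hA2 hσ1.2.2 (pbFst σ1 σ2 z) hz1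
    obtain ⟨w2, hw2c, hw2a, hw2b⟩ :=
      snd_mem_comm σ1 σ2 hσ1.1 m n hmn hA1 hA2 hσ2.2.2 (pbSnd σ1 σ2 z) hz2
    have hzw : z = w1 * w2 := by
      apply pb_ext
      · rw [map_mul, hw1a, hw2a, mul_one]
      · rw [map_mul, hw1b, hw2b, one_mul]
    rw [hzw]
    exact mul_mem hw1c hw2c
  · exact ((pbKerEquiv σ1 σ2).trans (e1.prodCongr e2)).trans (crtMul m n hmn).symm

end exist

end Cfsg.Agent.Lib.Lead.StemQ
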