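import Mathlib
import Cfsg.Prelude.Def_KGroupFacts

/-!
# A stem extension with kernel of odd prime order from a group generated by involutions

Let `S` be a finite group generated by elements of square one and `π` a homomorphism of `S` onto a perfect group `G`
whose kernel has `2 ^ k * p` elements, `p` an odd prime, and contains a central subgroup `Z` of `S` of order `p`.  Then
the quotient of `S` by the subgroup generated by the `p`-th powers of the kernel is a stem extension of `G` with kernel
of order `p`.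
-/

set_option autoImplicit false

namespace Cfsg.Agent.Lib.Lead.StemQ

open Cfsg
open scoped commutatorElement

universe u v

section pow

variable {S : Type v} [Group S]

/-- the set of `p`-th powers of the elements of a subgroup -/
def powSet (K : Subgroup S) (p : ℕ) : Set S := {y | ∃ x ∈ K, y = x ^ p}

/-- the normal subgroup generated by the `p`-th powers of the elements of a subgroup -/
def powSub (K : Subgroup S) (p : ℕ) : Subgroup S := Subgroup.normalClosure (powSet K p)

instance powSub_normal (K : Subgroup S) (p : ℕ) : (powSub K p).Normal := Subgroup.normalClosure_normal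

theorem powSub_le (K : Subgroup S) [K.Normal] (p : ℕ) : powSub K p ≤ K :=
  Subgroup.normalClosure_le_normal (by rintro _ ⟨x, hx, rfl⟩; exact K.pow_mem hx p)

theorem conj_powSet (K : Subgroup S) [hK : K.Normal] (p : ℕ) :
    Group.conjugatesOfSet (powSet K p) ⊆ powSet K p := by
  intro y hy
  rw [Group.mem_conjugatesOfSet_iff] at hy
  obtain ⟨a, ⟨x, hx, rfl⟩, hc⟩ := hy
  rw [isConj_iff] at hc
  obtain ⟨c, rfl⟩ := hc
  exact ⟨c * x * c⁻¹, hK.conj_mem x hx c, by rw [conj_pow]⟩

/-- the subgroup generated by the powers lies in every subgroup that contains the powers -/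
theorem powSub_le_of (K : Subgroup S) [K.Normal] (p : ℕ) (T : Subgroup S) (h : powSet K p ⊆ T) :
    powSub K p ≤ T := by
  rw [powSub, Subgroup.normalClosure, Subgroup.closure_le]
  exact (conj_powSet K p).trans h

theorem pow_mem_powSub (K : Subgroup S) (p : ℕ) {x : S} (hx : x ∈ K) : x ^ p ∈ powSub K p :=
  Subgroup.subset_normalClosure ⟨x, hx, rfl⟩

end pow

section main

variable {S : Type v} {G : Type u} [Group S] [Finite S] [Group G] (π : S →* G)
  (Z : Subgroup S) (hZc : Z ≤ Subgroup.center S) (hZk : Z ≤ π.ker) (p k : ℕ) (hp : p.Prime) (hp2 : p ≠ 2)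
  (hZ : Nat.card Z = p) (hker : Nat.card π.ker = 2 ^ k * p)

include hp hp2 in
theorem not_dvd_two_pow : ¬ p ∣ 2 ^ k := fun h =>
  hp2 ((Nat.prime_dvd_prime_iff_eq hp Nat.prime_two).1 (hp.dvd_of_dvd_pow h))

include hZc hZk hp hp2 hZ hker in
/-- the index of the centre of the kernel is a power of two -/
theorem index_center_dvd : (Subgroup.center ↥π.ker).index ∣ 2 ^ k := by
  have hle : Z.subgroupOf π.ker ≤ Subgroup.center ↥π.ker := by
    intro x hx
    rw [Subgroup.mem_center_iff]
    intro y
    have := Subgroup.mem_center_iff.1 (hZc (Subgroup.mem_subgroupOf.1 hx)) y.1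
    exact Subtype.ext this
  refine (Subgroup.index_dvd_of_le hle).trans ?_
  have h1 : Nat.card ↥(Z.subgroupOf π.ker) = p := by
    rw [Nat.card_congr (Subgroup.subgroupOfEquivOfLe hZk).toEquiv, hZ]
  have h2 := Subgroup.card_mul_index (Z.subgroupOf π.ker)
  rw [h1, hker, mul_comm] at h2
  have := Nat.eq_of_mul_eq_mul_right hp.pos h2
  rw [this]

include hZc hZk hp hp2 hZ hker in
/-- the central subgroup meets the subgroup generated by the powers trivially -/
theorem inf_powSub : ∀ z, z ∈ Z → z ∈ powSub π.ker p → z = 1 := by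
  classical
  set K := π.ker with hK
  set n := (Subgroup.center ↥K).index with hn
  let θ : ↥K →* ↥(Subgroup.center ↥K) := MonoidHom.transferCenterPow ↥K
  let φ : ↥K →* ↥(Subgroup.center ↥K) :=
    { toFun := fun x => θ x ^ (2 ^ k)
      map_one' := by rw [map_one, one_pow]
      map_mul' := fun x y => by
        have hc : Commute (θ x) (θ y) := by
          apply Subtype.ext
          rw [Subgroup.coe_mul, Subgroup.coe_mul]
          exact Subgroup.mem_center_iff.1 (θ y).2 (θ x).1
        rw [map_mul, hc.mul_pow] }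
  have hφ : ∀ x : ↥K, ((φ x : ↥(Subgroup.center ↥K)) : ↥K) = (x ^ n) ^ (2 ^ k) := fun x => rfl
  let T : Subgroup S := φ.ker.map K.subtype
  have hT : powSet K p ⊆ T := by
    rintro _ ⟨x, hx, rfl⟩
    refine ⟨⟨x, hx⟩ ^ p, ?_, rfl⟩
    rw [SetLike.mem_coe, MonoidHom.mem_ker, map_pow]
    apply Subtype.ext
    rw [Subgroup.coe_pow, hφ, Subgroup.coe_one, ← pow_mul, ← pow_mul]
    have : n * (2 ^ k * p) = Nat.card ↥K * n := by rw [hker]; ring
    rw [this, pow_mul, pow_card_eq_one', one_pow]
  have hQT := powSub_le_of K p T hT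
  intro z hz hzQ
  obtain ⟨zk, hzk, rfl⟩ := hQT hzQ
  rw [SetLike.mem_coe, MonoidHom.mem_ker] at hzk
  have h1 : zk ^ (n * 2 ^ k) = 1 := by
    have := congrArg (fun c : ↥(Subgroup.center ↥K) => (c : ↥K)) hzk
    simp only [hφ, Subgroup.coe_one] at this
    rw [pow_mul]; exact this
  have h2 : zk ^ p = 1 := by
    have h := pow_card_eq_one' (x := (⟨K.subtype zk, hz⟩ : ↥Z))
    rw [hZ] at h
    have := congrArg (fun c : ↥Z => (c : S)) h
    simp only [Subgroup.coe_pow, Subgroup.coe_one] at this
    apply Subtype.ext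
    rw [Subgroup.coe_pow, Subgroup.coe_one]
    exact this
  have hco : Nat.Coprime (n * 2 ^ k) p := by
    rw [Nat.coprime_comm, Nat.Prime.coprime_iff_not_dvd hp]
    intro hd
    rcases (Nat.Prime.dvd_mul hp).1 hd with h | h
    · exact not_dvd_two_pow p k hp hp2 (h.trans (index_center_dvd π Z hZc hZk p k hp hp2 hZ hker))
    · exact not_dvd_two_pow p k hp hp2 h
  have := (pow_gcd_eq_one (a := zk)).2 ⟨h1, h2⟩
  rw [hco.gcd_eq_one, pow_one] at this
  rw [this]; rfl

include hZc hZk hp hp2 hZ hker in
/-- **the stem extension** -/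
theorem exists_stem (hπ : Function.Surjective π) (hG : commutator G = ⊤)
    (hgen : Subgroup.closure {s : S | s ^ 2 = 1} = ⊤) :
    ∃ (Γ : Type v) (_ : Group Γ) (_ : Finite Γ) (σ : Γ →* G), IsStemExtension σ ∧ Nat.card ↥σ.ker = p := by
  classical
  haveI : Fact p.Prime := ⟨hp⟩
  set K := π.ker with hK
  set Q := powSub K p with hQ
  have hQK : Q ≤ K := powSub_le K p
  let σ : S ⧸ Q →* G := QuotientGroup.lift Q π fun x hx => hQK hx
  have hσmk : ∀ s : S, σ (QuotientGroup.mk s) = π s := fun s => rfl
  have hσ : Function.Surjective σ := fun g => by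
    obtain ⟨s, rfl⟩ := hπ g
    exact ⟨QuotientGroup.mk s, rfl⟩
  have hkerσ : σ.ker = K.map (QuotientGroup.mk' Q) := QuotientGroup.ker_lift _ _ _
  -- the image of the central subgroup
  set Zb := Z.map (QuotientGroup.mk' Q) with hZb
  have hZbK : Zb ≤ σ.ker := by rw [hkerσ]; exact Subgroup.map_mono hZk
  have hinj : Function.Injective ((QuotientGroup.mk' Q).comp Z.subtype) := by
    rw [injective_iff_map_eq_one]
    intro z hz
    have : (z : S) ∈ Q := (QuotientGroup.eq_one_iff _).1 hz
    exact Subtype.ext (inf_powSub π Z hZc hZk p k hp hp2 hZ hker z.1 z.2 this)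
  have hZbr : Zb = ((QuotientGroup.mk' Q).comp Z.subtype).range := by
    rw [MonoidHom.range_comp, Subgroup.range_subtype]
  have hcardZb : Nat.card ↥Zb = p := by
    rw [hZbr, ← Nat.card_congr (MonoidHom.ofInjective hinj).toEquiv, hZ]
  -- the kernel has exponent `p`
  have hexp : ∀ κ : S ⧸ Q, κ ∈ σ.ker → κ ^ p = 1 := by
    intro κ hκ
    rw [hkerσ] at hκ
    obtain ⟨x, hx, rfl⟩ := hκ
    show (QuotientGroup.mk' Q x) ^ p = 1
    rw [← map_pow]
    exact (QuotientGroup.eq_one_iff _).2 (pow_mem_powSub K p hx)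
  -- the order of the kernel
  have hcardK : Nat.card ↥σ.ker = p := by
    have hpg : IsPGroup p ↥σ.ker := by
      intro κ
      refine ⟨1, ?_⟩
      apply Subtype.ext
      rw [pow_one, Subgroup.coe_pow, Subgroup.coe_one]
      exact hexp κ.1 κ.2
    obtain ⟨m, hm⟩ := hpg.exists_card_eq
    have hdvd : Nat.card ↥σ.ker ∣ 2 ^ k * p := by
      rw [← hker, hkerσ]
      exact Subgroup.card_map_dvd _ _
    have hle : Nat.card ↥Zb ≤ Nat.card ↥σ.ker := Subgroup.card_le_of_le hZbK
    rw [hcardZb] at hle
    rw [hm] at hdvd hle ⊢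
    have hm1 : m ≤ 1 := by
      by_contra hcon
      have h2 : p ^ 2 ∣ 2 ^ k * p := (pow_dvd_pow p (by omega)).trans hdvd
      rw [pow_two, mul_comm (2 ^ k) p] at h2
      exact not_dvd_two_pow p k hp hp2 (Nat.dvd_of_mul_dvd_mul_left hp.pos h2)
    have hm0 : m ≠ 0 := by
      intro h0
      rw [h0, pow_zero] at hle
      exact absurd hle (by have := hp.two_le; omega)
    have : m = 1 := by omega
    rw [this, pow_one]
  have hZbeq : Zb = σ.ker := by
    apply Subgroup.eq_of_le_of_card_ge hZbK
    rw [hcardK, hcardZb]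
  -- the kernel is central
  have hcen : σ.ker ≤ Subgroup.center (S ⧸ Q) := by
    rw [← hZbeq]
    rintro _ ⟨z, hz, rfl⟩
    rw [Subgroup.mem_center_iff]
    intro γ
    obtain ⟨s, rfl⟩ := QuotientGroup.mk'_surjective Q γ
    rw [← map_mul, ← map_mul, Subgroup.mem_center_iff.1 (hZc hz) s]
  -- the quotient is perfect
  have hperf : commutator (S ⧸ Q) = ⊤ := by
    set C := commutator (S ⧸ Q) with hC
    let ψ : S →* (S ⧸ Q) ⧸ C := (QuotientGroup.mk' C).comp (QuotientGroup.mk' Q)
    have hψs : Function.Surjective ψ :=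
      (QuotientGroup.mk'_surjective C).comp (QuotientGroup.mk'_surjective Q)
    have hcomm : ∀ a b : (S ⧸ Q) ⧸ C, a * b = b * a := by
      intro a b
      obtain ⟨a, rfl⟩ := QuotientGroup.mk'_surjective C a
      obtain ⟨b, rfl⟩ := QuotientGroup.mk'_surjective C b
      rw [← map_mul, ← map_mul]
      apply (QuotientGroup.eq).2
      have : (a * b)⁻¹ * (b * a) = ⁅b⁻¹, a⁻¹⁆ := by
        rw [commutatorElement_def]; group
      rw [this]
      exact Subgroup.commutator_mem_commutator (Subgroup.mem_top _) (Subgroup.mem_top _)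
    -- every element has square one
    have hsq : ∀ a : (S ⧸ Q) ⧸ C, a ^ 2 = 1 := by
      let E : Subgroup S :=
        { carrier := {s | ψ s ^ 2 = 1}
          one_mem' := by show ψ 1 ^ 2 = 1; rw [map_one, one_pow]
          mul_mem' := fun {a b} ha hb => by
            show ψ (a * b) ^ 2 = 1
            have ha' : ψ a ^ 2 = 1 := ha
            have hb' : ψ b ^ 2 = 1 := hb
            rw [map_mul, (show Commute (ψ a) (ψ b) from hcomm _ _).mul_pow, ha', hb', one_mul]
          inv_mem' := fun {a} ha => by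
            show ψ a⁻¹ ^ 2 = 1
            have ha' : ψ a ^ 2 = 1 := ha
            rw [map_inv, inv_pow, ha', inv_one] }
      have hE : E = ⊤ := by
        rw [eq_top_iff, ← hgen, Subgroup.closure_le]
        intro s hs
        show ψ s ^ 2 = 1
        have hs' : s ^ 2 = 1 := hs
        rw [← map_pow, hs', map_one]
      intro a
      obtain ⟨s, rfl⟩ := hψs a
      have : s ∈ E := by rw [hE]; exact Subgroup.mem_top s
      exact this
    -- every element has `p`-th power one
    have hpp : ∀ a : (S ⧸ Q) ⧸ C, a ^ p = 1 := by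
      intro a
      obtain ⟨γ, rfl⟩ := QuotientGroup.mk'_surjective C a
      have hγ : σ γ ∈ (commutator (S ⧸ Q)).map σ := by
        rw [commutator_def, Subgroup.map_commutator, ← MonoidHom.range_eq_map,
          MonoidHom.range_eq_top.2 hσ, ← commutator_def, hG]
        exact Subgroup.mem_top _
      obtain ⟨c, hc, hcγ⟩ := hγ
      have hk : γ * c⁻¹ ∈ σ.ker := by
        rw [MonoidHom.mem_ker, map_mul, map_inv, hcγ, mul_inv_cancel]
      have hc1 : QuotientGroup.mk' C c = 1 := (QuotientGroup.eq_one_iff c).2 hc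
      have h1 : QuotientGroup.mk' C γ = QuotientGroup.mk' C (γ * c⁻¹) := by
        rw [map_mul, map_inv, hc1, inv_one, mul_one]
      rw [h1, ← map_pow, hexp _ hk, map_one]
    rw [eq_top_iff]
    intro γ _
    have h2 := hsq (QuotientGroup.mk' C γ)
    have h3 := hpp (QuotientGroup.mk' C γ)
    have hco : Nat.Coprime 2 p := by
      rw [Nat.coprime_comm, Nat.Prime.coprime_iff_not_dvd hp]
      intro hd
      exact hp2 ((Nat.prime_dvd_prime_iff_eq hp Nat.prime_two).1 hd)
    have h4 := (pow_gcd_eq_one (a := QuotientGroup.mk' C γ)).2 ⟨h2, h3⟩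
    rw [hco.gcd_eq_one, pow_one] at h4
    exact (QuotientGroup.eq_one_iff γ).1 h4
  refine ⟨S ⧸ Q, inferInstance, inferInstance, σ, ⟨hσ, hcen, ?_⟩, hcardK⟩
  rw [hperf]
  exact le_top

end main

end Cfsg.Agent.Lib.Lead.StemQ
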